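import Groth.Agent.Lib.DimOne18.Affine
import Groth.Agent.Lib.FibreTop.FiniteFactor
import Groth.Agent.Lib.AlgSpRel14.FlatDim
import Mathlib.RingTheory.DedekindDomain.Basic
import Mathlib.RingTheory.Ideal.GoingUp

/-!
# Quasi-finite separated schemes over a one-dimensional base are affine
-/

universe u

open CategoryTheory AlgebraicGeometry TopologicalSpace

set_option linter.style.haveILetI false
set_option backward.isDefEq.respectTransparency false

namespace Groth.Agent.NeronIsog19

theorem ringKrullDim_le_of_finite' (R S : Type u) [CommRing R] [CommRing S] [Algebra R S] [Module.Finite R S] :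
    ringKrullDim S ≤ ringKrullDim R :=
  Order.krullDim_le_of_strictMono (fun p : PrimeSpectrum S => PrimeSpectrum.comap (algebraMap R S) p)
    fun p p' h => Ideal.IsIntegral.comap_lt_comap (A := S) (R := R) (I := p.asIdeal) (J := p'.asIdeal) h

/-- A quasi-finite separated scheme of finite type over a Noetherian ring of dimension at most one is affine. -/
theorem isAffineHom_of_locallyQuasiFinite {R : Type u} [CommRing R] [IsNoetherianRing R]
    (hR : ringKrullDim R ≤ 1) {X : Scheme.{u}} (f : X ⟶ Spec (CommRingCat.of R)) [LocallyQuasiFinite f]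
    [LocallyOfFiniteType f] [IsSeparated f] [QuasiCompact f] : IsAffineHom f := by
  obtain ⟨Z, j, π, hj, hπ, -, hjπ⟩ := FibreTop.exists_immersion_finite f
  haveI : QuasiCompact (j ≫ π) := by rw [hjπ]; infer_instance
  haveI : QuasiCompact j := QuasiCompact.of_comp j π
  let W := j.image
  let q : W ⟶ Spec (CommRingCat.of R) := j.imageι ≫ π
  haveI : IsFinite q := inferInstance
  haveI : IsAffine W := isAffine_of_isAffineHom q
  haveI : IsLocallyNoetherian W := LocallyOfFiniteType.isLocallyNoetherian q
  have hdim : topologicalKrullDim W ≤ 1 := by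
    let φ : CommRingCat.of R ⟶ Γ(W, ⊤) := Spec.preimage (W.isoSpec.inv ≫ q)
    have hφ : IsFinite (Spec.map φ) := by rw [Spec.map_preimage]; infer_instance
    rw [IsFinite.SpecMap_iff] at hφ
    algebraize [φ.hom]
    calc topologicalKrullDim W = topologicalKrullDim (PrimeSpectrum Γ(W, ⊤)) :=
          IsHomeomorph.topologicalKrullDim_eq _ W.isoSpec.hom.homeomorph.isHomeomorph
      _ = ringKrullDim Γ(W, ⊤) := PrimeSpectrum.topologicalKrullDim_eq_ringKrullDim _
      _ ≤ ringKrullDim R := ringKrullDim_le_of_finite' R Γ(W, ⊤)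
      _ ≤ 1 := hR
  have hW : ∀ x : W, IsNoetherianRing (W.presheaf.stalk x) ∧ ringKrullDim (W.presheaf.stalk x) ≤ 1 := fun x =>
    ⟨inferInstance, (AlgSpRel14.stalkDim_le_dim W x).trans hdim⟩
  haveI : CompactSpace X := QuasiCompact.compactSpace_of_compactSpace f
  haveI : IsOpenImmersion j.toImage := inferInstance
  have hc : IsCompact (j.toImage.opensRange : Set W) := isCompact_range j.toImage.continuous
  haveI : IsAffine j.toImage.opensRange.toScheme := DimOne18.isAffineOpen_of_isCompact hW _ hc
  haveI : IsAffine X := IsAffine.of_isIso j.toImage.isoOpensRange.hom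
  exact isAffineHom_of_isAffine f

end Groth.Agent.NeronIsog19
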