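import Groth.Agent.Lib.GrpDim20.Basic
import Groth.Agent.Lib.GrpUnr20.Basic
import Groth.Agent.Lib.GrpNeutral20.Gen
import Groth.Agent.Lib.TorsLift22.Etale
import Groth.Agent.Lib.AbRigid.FlatFibre
import Groth.Agent.Lib.FlatH4.SmoothFibres

/-!
# Homomorphisms of group schemes with equal fibre dimensions
-/

universe u

open CategoryTheory Limits MonoidalCategory CartesianMonoidalCategory AlgebraicGeometry
open scoped MonObj GrpObj CategoryTheory.Obj

set_option linter.style.haveILetI false
set_option backward.isDefEq.respectTransparency false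

namespace Groth.Agent.NeronIsog19

open Groth.Agent.VarDim

section Field

variable {k : Type u} [Field k]

/-- The dimension of an algebraic group is a natural number. -/
theorem exists_dim_eq (G : Over (Spec (CommRingCat.of k))) [GrpObj G] [LocallyOfFiniteType G.hom] :
    ∃ d : ℕ, topologicalKrullDim G.left = (d : WithBot ℕ∞) := by
  let e : G.left := η[G].left (IsLocalRing.closedPoint k)
  haveI : IsLocallyNoetherian G.left := LocallyOfFiniteType.isLocallyNoetherian G.hom
  obtain ⟨b, hb⟩ := ENat.ne_top_iff_exists.1 (DimF18.coheight_ne_top (X := G.left) e)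
  exact ⟨sdim G.hom e + b, by rw [← GrpCM20.localDim_eq G e, DimF18.localDim_eq G.hom hb.symm]⟩

/-- A quasi-finite homomorphism of algebraic groups of equal dimension with reduced target is flat. -/
theorem flat_of_locallyQuasiFinite (G H : Over (Spec (CommRingCat.of k))) [GrpObj G] [GrpObj H]
    [IsReduced H.left] [LocallyOfFiniteType G.hom] [QuasiCompact G.hom] [LocallyOfFiniteType H.hom]
    (f : G ⟶ H) [IsMonHom f] [LocallyQuasiFinite f.left]
    (hdim : topologicalKrullDim G.left = topologicalKrullDim H.left) : Flat f.left := by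
  haveI : IsLocallyNoetherian G.left := LocallyOfFiniteType.isLocallyNoetherian G.hom
  haveI : CompactSpace G.left := QuasiCompact.compactSpace_of_compactSpace G.hom
  haveI : IsNoetherian G.left := {}
  haveI : LocallyOfFiniteType f.left := AlgGrpBasic19.lft_left f
  obtain ⟨s, hs⟩ := exists_finite_generic (isClosed_univ (X := G.left))
  haveI : Nonempty G.left := ⟨η[G].left (IsLocalRing.closedPoint k)⟩
  have hne : s.Nonempty := by
    obtain ⟨x⟩ := ‹Nonempty G.left›
    obtain ⟨ζ, hζ, -⟩ := (hs x).1 (Set.mem_univ x)
    exact ⟨ζ, hζ⟩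
  obtain ⟨ξ, hξs, hξ⟩ := s.exists_max_image (sdim G.hom) hne
  have hmax : ∀ y, sdim G.hom y ≤ sdim G.hom ξ := fun y => by
    obtain ⟨ζ, hζ, hζy⟩ := (hs y).1 (Set.mem_univ y)
    refine le_trans ?_ (hξ ζ hζ)
    by_cases he : ζ = y
    · rw [he]
    · exact (sdim_lt_of_specializes G.hom hζy he).le
  have hmaxH : ∀ y, sdim H.hom y ≤ sdim G.hom ξ := fun y => by
    have h1 : ((sdim H.hom y : ℕ) : WithBot ℕ∞) ≤ topologicalKrullDim H.left := by
      rw [dim_eq_iSup_sdim H.hom]
      exact le_iSup (fun z : H.left => ((sdim H.hom z : ℕ) : WithBot ℕ∞)) y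
    rw [← hdim, dim_eq_iSup_sdim G.hom] at h1
    exact_mod_cast h1.trans (iSup_le fun z => by exact_mod_cast hmax z :
      (⨆ z : G.left, ((sdim G.hom z : ℕ) : WithBot ℕ∞)) ≤ ((sdim G.hom ξ : ℕ) : WithBot ℕ∞))
  have heq : sdim H.hom (f.left ξ) = sdim G.hom ξ := by
    refine le_antisymm (hmaxH _) ?_
    have hfib : topologicalKrullDim (f.left ⁻¹' {f.left ξ} : Set G.left) ≤ ((0 : ℕ) : WithBot ℕ∞) := by
      haveI : DiscreteTopology ↥(f.left ⁻¹' {f.left ξ}) :=
        (f.left.isDiscrete_preimage_singleton _).to_subtype
      simpa using topologicalKrullDim_zero_of_discreteTopology ↥(f.left ⁻¹' {f.left ξ})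
    have h3 := (dim_preimage_singleton_le_iff H.hom f.left _ 0).1 hfib ξ rfl
    rw [Over.w] at h3
    omega
  refine AbRigid.flat_of_flat_stalkMap G H f ξ ?_
  have hF : IsField (H.left.presheaf.stalk (f.left ξ)) := TorsLift22.isField_stalk_of_maximal _ fun y hy => by
    by_contra hne'
    have := sdim_lt_of_specializes H.hom hy hne'
    have := hmaxH y
    omega
  letI : Field (H.left.presheaf.stalk (f.left ξ)) := hF.toField
  exact (inferInstance : Module.Flat (H.left.presheaf.stalk (f.left ξ)) (G.left.presheaf.stalk ξ))

/-- A flat homomorphism of algebraic groups of equal dimension is quasi-finite. -/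
theorem locallyQuasiFinite_of_flat (G H : Over (Spec (CommRingCat.of k))) [GrpObj G] [GrpObj H]
    [LocallyOfFiniteType G.hom] [LocallyOfFiniteType H.hom] (f : G ⟶ H) [IsMonHom f] [QuasiCompact f.left]
    [Flat f.left] (hdim : topologicalKrullDim G.left = topologicalKrullDim H.left) :
    LocallyQuasiFinite f.left := by
  haveI : IsLocallyNoetherian H.left := LocallyOfFiniteType.isLocallyNoetherian H.hom
  haveI : LocallyOfFiniteType f.left := AlgGrpBasic19.lft_left f
  haveI : LocallyOfFinitePresentation f.left := VarDim.locallyOfFinitePresentation_of_locallyNoetherian f.left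
  let i : pullback f η[H] ⟶ G := pullback.fst f η[H]
  have hN : IsPullback i (toUnit _) f η[H] := by
    rw [toUnit_unique (toUnit _) (pullback.snd f η[H])]
    exact IsPullback.of_hasPullback f η[H]
  obtain ⟨hclosed, hsum⟩ := GrpDim20.range_closed_and_dim G H _ f i hN
  obtain ⟨_, hi⟩ := GrpDim20.exists_grpObj_kernel f i hN
  haveI : LocallyOfFiniteType (pullback f η[H]).hom :=
    GrpUnr20.kernel_hom f i hN (P := @LocallyOfFiniteType) ‹_›
  let U : H.left.Opens := ⟨Set.range f.left, f.left.isOpenMap.isOpen_range⟩
  have hU : topologicalKrullDim (Set.range f.left) = topologicalKrullDim H.left :=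
    GrpCM20.dim_opens H U ⟨_, η[G].left (IsLocalRing.closedPoint k), rfl⟩
  refine GrpUnr20.locallyQuasiFinite_of_kernel f i hN ?_
  have h0 : topologicalKrullDim (pullback f η[H]).left = 0 := by
    obtain ⟨a, ha⟩ := exists_dim_eq H
    obtain ⟨b, hb⟩ := exists_dim_eq (pullback f η[H])
    rw [hdim, hU, ha, hb] at hsum
    have : b = 0 := by
      have h' : a = a + b := by exact_mod_cast hsum
      omega
    rw [hb, this]
    rfl
  exact (GrpUnr20.locallyQuasiFinite_iff _).2 fun x => by
    rw [GrpDim20.fibreDimAt_point, GrpCM20.localDim_eq (pullback f η[H]), h0]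

/-- A surjective homomorphism with finite kernel preserves the dimension. -/
theorem dim_eq_of_surjective (G H N : Over (Spec (CommRingCat.of k))) [GrpObj G] [GrpObj H]
    [LocallyOfFiniteType G.hom] [LocallyOfFiniteType H.hom] (f : G ⟶ H) [IsMonHom f] [QuasiCompact f.left]
    [Surjective f.left] (i : N ⟶ G) (hN : IsPullback i (toUnit N) f η[H]) [IsFinite N.hom] :
    topologicalKrullDim G.left = topologicalKrullDim H.left := by
  obtain ⟨-, hsum⟩ := GrpDim20.range_closed_and_dim G H _ f i hN
  obtain ⟨_, hi⟩ := GrpDim20.exists_grpObj_kernel f i hN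
  haveI : LocallyOfFiniteType N.hom := inferInstance
  let e : N.left := η[N].left (IsLocalRing.closedPoint k)
  have h0 : topologicalKrullDim N.left = 0 := by
    rw [← GrpCM20.localDim_eq N e, ← GrpDim20.fibreDimAt_point N.hom e]
    exact (GrpUnr20.locallyQuasiFinite_iff N.hom).1 inferInstance e
  rw [hsum, h0, add_zero, Set.range_eq_univ.2 f.left.surjective]
  exact IsHomeomorph.topologicalKrullDim_eq _ (Homeomorph.Set.univ H.left).isHomeomorph

end Field

section Base

variable {S : Scheme.{u}}

/-- The dimension of a fibre does not depend on the field over which it is taken. -/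
theorem dim_pullback_field (G : Over S) [GrpObj G] [LocallyOfFiniteType G.hom] {K : Type u} [Field K]
    (a : Spec (CommRingCat.of K) ⟶ S) :
    topologicalKrullDim ((Over.pullback a).obj G).left =
      topologicalKrullDim ↥(G.hom ⁻¹' {a (IsLocalRing.closedPoint K)}) := by
  let F := (Over.pullback a).obj G
  haveI : LocallyOfFiniteType F.hom := inferInstanceAs (LocallyOfFiniteType (pullback.snd _ _))
  let z : F.left := η[F].left (IsLocalRing.closedPoint K)
  have h := FibDim14.fibreDimAt_baseChange (IsPullback.of_hasPullback G.hom a) z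
  rw [GrpNeutral20.fibreDimAt_eq] at h
  have e : G.hom (pullback.fst G.hom a z) = a (IsLocalRing.closedPoint K) := by
    rw [← Scheme.Hom.comp_apply, pullback.condition, Scheme.Hom.comp_apply]
    exact congrArg _ (Subsingleton.elim (α := PrimeSpectrum K) _ _)
  rw [e] at h
  rw [← h, ← GrpCM20.localDim_eq F z, ← GrpDim20.fibreDimAt_point F.hom z]
  rfl

variable (G H : Over S) [GrpObj G] [GrpObj H] (f : G ⟶ H) [IsMonHom f]

/-- For smooth groups with fibrewise equal dimensions, flatness and quasi-finiteness agree. -/
theorem locallyQuasiFinite_iff_flat [Smooth G.hom] [QuasiCompact G.hom] [Smooth H.hom] [IsSeparated H.hom]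
    (hdim : ∀ s : S, topologicalKrullDim ↥(G.hom ⁻¹' {s}) = topologicalKrullDim ↥(H.hom ⁻¹' {s})) :
    LocallyQuasiFinite f.left ↔ Flat f.left := by
  haveI : QuasiCompact (f.left ≫ H.hom) := by rw [Over.w]; infer_instance
  haveI : QuasiCompact f.left := QuasiCompact.of_comp f.left H.hom
  haveI : LocallyOfFiniteType (f.left ≫ H.hom) := by rw [Over.w]; infer_instance
  haveI : LocallyOfFiniteType f.left := locallyOfFiniteType_of_comp f.left H.hom
  haveI : Flat (f.left ≫ H.hom) := by rw [Over.w]; infer_instance
  haveI : LocallyOfFinitePresentation (f.left ≫ H.hom) := by rw [Over.w]; infer_instance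
  have hd : ∀ s : S, topologicalKrullDim ((Over.pullback (S.fromSpecResidueField s)).obj G).left =
      topologicalKrullDim ((Over.pullback (S.fromSpecResidueField s)).obj H).left := fun s => by
    rw [dim_pullback_field G, dim_pullback_field H]
    exact hdim _
  constructor
  · intro hqf
    refine FlatH4.flat_of_fibres f.left H.hom fun s => (AbRigid.fibre_iff f s @Flat).2 ?_
    haveI : Smooth ((Over.pullback (S.fromSpecResidueField s)).obj H).hom :=
      inferInstanceAs (Smooth (pullback.snd H.hom (S.fromSpecResidueField s)))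
    haveI : LocallyOfFiniteType ((Over.pullback (S.fromSpecResidueField s)).obj G).hom :=
      inferInstanceAs (LocallyOfFiniteType (pullback.snd G.hom (S.fromSpecResidueField s)))
    haveI : QuasiCompact ((Over.pullback (S.fromSpecResidueField s)).obj G).hom :=
      inferInstanceAs (QuasiCompact (pullback.snd G.hom (S.fromSpecResidueField s)))
    haveI : IsReduced ((Over.pullback (S.fromSpecResidueField s)).obj H).left :=
      AbRigid.isReduced_of_smooth_over_field ((Over.pullback (S.fromSpecResidueField s)).obj H).hom
    haveI : LocallyQuasiFinite (AbRigid.fibreMap f s).left :=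
      MorphismProperty.of_isPullback (AbRigid.isPullback_fibreMap f s) hqf
    exact flat_of_locallyQuasiFinite _ _ (AbRigid.fibreMap f s) (hd s)
  · intro hflat
    refine (GrpUnr20.locallyQuasiFinite_iff_fibres f).2 fun s => ?_
    haveI : LocallyOfFiniteType ((Over.pullback (S.fromSpecResidueField s)).obj G).hom :=
      inferInstanceAs (LocallyOfFiniteType (pullback.snd G.hom (S.fromSpecResidueField s)))
    haveI : LocallyOfFiniteType ((Over.pullback (S.fromSpecResidueField s)).obj H).hom :=
      inferInstanceAs (LocallyOfFiniteType (pullback.snd H.hom (S.fromSpecResidueField s)))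
    haveI : QuasiCompact (AbRigid.fibreMap f s).left :=
      MorphismProperty.of_isPullback (AbRigid.isPullback_fibreMap f s) ‹QuasiCompact f.left›
    haveI : Flat (AbRigid.fibreMap f s).left :=
      MorphismProperty.of_isPullback (AbRigid.isPullback_fibreMap f s) hflat
    exact locallyQuasiFinite_of_flat _ _ (AbRigid.fibreMap f s) (hd s)

end Base

end Groth.Agent.NeronIsog19
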