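import Groth.Agent.Lib.NeronIsog19.Neron
import Groth.Agent.Lib.NeronElem.Basic
import Groth.Agent.Lib.GrpFin20.Basic
import Groth.Agent.Lib.TorsLift22.Etale
import Groth.Agent.Lib.RigidRel.Unital.Grp
import Groth.Agent.S7790
import Mathlib.AlgebraicGeometry.Group.Abelian

/-!
# Isogenies of Néron models of degree invertible on the base
-/

universe u

open CategoryTheory Limits MonoidalCategory CartesianMonoidalCategory AlgebraicGeometry
open scoped MonObj GrpObj CategoryTheory.Obj

set_option linter.style.haveILetI false
set_option backward.isDefEq.respectTransparency false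

namespace Groth.Agent.NeronIsog19

variable (R : Type u) [CommRing R] [IsDomain R]

/-- A flat separated group with commutative generic fibre is commutative. -/
theorem isCommMonObj_of_genericFibre (A : Over (Spec (CommRingCat.of R))) [GrpObj A] [Flat A.hom]
    [IsSeparated A.hom] [IsCommMonObj ((Neron.genericFibre R).obj A)] : IsCommMonObj A := by
  haveI : Flat (A ⊗ A).hom := inferInstanceAs (Flat (pullback.fst A.hom A.hom ≫ A.hom))
  have h : fst A A * snd A A = snd A A * fst A A := by
    refine NeronElem.eq_of_map_eq R _ _ _ _ ?_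
    rw [Functor.map_mul, Functor.map_mul, mul_comm]
  constructor
  rw [show μ[A] = fst A A * snd A A by rw [Hom.mul_def, lift_fst_snd, Category.id_comp]]
  rw [MonObj.comp_mul, CartesianMonoidalCategory.braiding_hom_fst, CartesianMonoidalCategory.braiding_hom_snd]
  exact h.symm

/-- The kernel of the generic fibre is the base change of the kernel. -/
theorem isPullback_genericKernel {A B N : Over (Spec (CommRingCat.of R))} [GrpObj B] (φ : A ⟶ B) (i : N ⟶ A)
    (hN : IsPullback i (toUnit N) φ η[B]) :
    IsPullback ((Neron.genericFibre R).map i).left ((Neron.genericFibre R).obj N).hom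
      ((Neron.genericFibre R).map φ).left η[(Neron.genericFibre R).obj B].left := by
  have sq : IsPullback i.left N.hom φ.left η[B].left := by
    have e : N.hom = (toUnit N).left := (Over.w (toUnit N)).symm.trans (Category.comp_id _)
    rw [e]
    exact hN.map (Over.forget _)
  have h := (IsPullback.of_hasPullback N.hom (Neron.genPt R)).paste_horiz sq
  rw [← GrpNeutral20.unit_fst B (Neron.genPt R)] at h
  have h' : IsPullback (((Neron.genericFibre R).map i).left ≫ pullback.fst A.hom (Neron.genPt R))
      ((Neron.genericFibre R).obj N).hom φ.left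
      (η[(Neron.genericFibre R).obj B].left ≫ pullback.fst B.hom (Neron.genPt R)) := by
    rw [NeronElem.fst_comp_left]
    exact h
  refine IsPullback.of_right h' ?_ (GrpFin20.isPullback_map (Neron.genPt R) φ)
  have hi : i ≫ φ = toUnit N ≫ η[B] := hN.w
  rw [← Over.comp_left, ← Functor.map_comp, hi]
  refine pullback.hom_ext ?_ ?_
  · rw [NeronElem.fst_comp_left, Category.assoc, GrpNeutral20.unit_fst B (Neron.genPt R), Over.comp_left,
      ← Category.assoc, ← Category.assoc]
    congr 1
    have e : (toUnit N).left = N.hom := ((Over.w (toUnit N)).symm.trans (Category.comp_id _)).symm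
    rw [e]
    exact pullback.condition
  · exact (Over.w ((Neron.genericFibre R).map (toUnit N ≫ η[B]))).trans
      ((Category.comp_id _).symm.trans ((congrArg (_ ≫ ·) (Over.w η[(Neron.genericFibre R).obj B]).symm).trans
        (Category.assoc _ _ _).symm))

theorem isNeronModelOf_kernel_and_etale (A B : Over (Spec (CommRingCat.of R))) [GrpObj A] [GrpObj B]
    (hA : Neron.IsNeronModelOf R A ((Neron.genericFibre R).obj A) (Iso.refl _))
    (hB : Neron.IsNeronModelOf R B ((Neron.genericFibre R).obj B) (Iso.refl _))
    [IsProper ((Neron.genericFibre R).obj A).hom] [GeometricallyIntegral ((Neron.genericFibre R).obj A).hom]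
    [IsProper ((Neron.genericFibre R).obj B).hom] [GeometricallyIntegral ((Neron.genericFibre R).obj B).hom]
    (φ : A ⟶ B) [IsMonHom φ] (hφ : SGA7.IsIsogenyOver ((Neron.genericFibre R).map φ))
    (N : Over (Spec (CommRingCat.of R))) (i : N ⟶ A) (hN : AlgGrp.IsKernel i φ)
    (hdeg : ∀ x : ↥(Spec (CommRingCat.of (FractionRing R))),
      IsUnit ((((Neron.genericFibre R).obj N).hom.finrank x : ℕ) : R)) :
    Neron.IsNeronModelOf R N ((Neron.genericFibre R).obj N) (Iso.refl _) ∧ Etale N.hom := by
  obtain ⟨hAs, hAsep, hAlft, hAqc, hAext⟩ := hA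
  obtain ⟨hBs, hBsep, hBlft, hBqc, -⟩ := hB
  let F := Neron.genericFibre R
  let AK := F.obj A
  let BK := F.obj B
  let u : AK ⟶ BK := F.map φ
  haveI : Smooth AK.hom := inferInstanceAs (Smooth (pullback.snd A.hom (Neron.genPt R)))
  haveI : Smooth BK.hom := inferInstanceAs (Smooth (pullback.snd B.hom (Neron.genPt R)))
  haveI : Surjective u.left := hφ.1
  haveI : IsProper (u.left ≫ BK.hom) := by rw [Over.w]; infer_instance
  haveI : IsProper u.left := IsProper.of_comp u.left BK.hom
  let iK := pullback.fst u η[BK]
  have hK : IsPullback iK (toUnit _) u η[BK] := by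
    rw [toUnit_unique (toUnit _) (pullback.snd u η[BK])]
    exact IsPullback.of_hasPullback u η[BK]
  haveI : IsFinite (pullback u η[BK]).hom := hφ.2 _ iK hK
  haveI : LocallyQuasiFinite u.left := GrpUnr20.locallyQuasiFinite_of_kernel u iK hK inferInstance
  haveI : IsFinite u.left := IsFinite.of_isProper_of_locallyQuasiFinite u.left
  haveI : IsReduced BK.left := AbRigid.isReduced_of_smooth_over_field BK.hom
  haveI : Flat u.left := flat_of_locallyQuasiFinite AK BK u (dim_eq_of_surjective AK BK _ u iK hK)
  -- the degree
  let x₀ : Spec (CommRingCat.of (FractionRing R)) := IsLocalRing.closedPoint (FractionRing R)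
  set n := (F.obj N).hom.finrank x₀ with hn
  have hunit : IsUnit (n : R) := hdeg x₀
  have hn1 : 1 ≤ n := Nat.one_le_iff_ne_zero.2 fun h0 => not_isUnit_zero (M₀ := R) (by rw [h0] at hunit; simpa using hunit)
  have hrank : ∀ s, Scheme.Hom.finrank u.left (η[BK].left s) = n := fun s => by
    have sq : IsPullback (F.map i).left (F.obj N).hom u.left η[BK].left := isPullback_genericKernel R φ i hN
    refine (Scheme.Hom.finrank_of_isPullback _ _ _ _ sq s).symm.trans ?_
    exact congrArg _ (Subsingleton.elim (α := PrimeSpectrum (FractionRing R)) _ _)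
  haveI : GeometricallyConnected AK.hom := Unital.geometricallyConnected_of_geometricallyIntegral AK.hom
  haveI : GeometricallyConnected BK.hom := Unital.geometricallyConnected_of_geometricallyIntegral BK.hom
  obtain ⟨⟨ψK, ⟨hψK, hψKc⟩, -⟩, -⟩ := S7790.result AK BK u n hn1 hrank
  obtain ⟨ψ, hψ⟩ := (hAext B hBs).2 ψK
  have hψ' : F.map ψ = ψK := (Category.comp_id _).symm.trans hψ
  have hcomp : φ ≫ ψ = 𝟙 A ^ n := by
    refine NeronElem.eq_of_map_eq R _ _ _ _ ?_
    rw [Functor.map_comp, hψ', hψKc]
    exact (congrArg (· ^ n) (F.map_id A).symm).trans (map_pow F.homMonoidHom (𝟙 A) n).symm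
  haveI : IsCommMonObj AK := isCommMonObj_of_isProper_of_geometricallyIntegral AK
  haveI : IsCommMonObj A := isCommMonObj_of_genericFibre R A
  have hu : IsUnit (n : Γ(Spec (CommRingCat.of R), ⊤)) := by
    have := hunit.map (Scheme.ΓSpecIso (CommRingCat.of R)).inv.hom
    rwa [map_natCast] at this
  haveI : Etale (𝟙 A ^ n).left := TorsLift22.etale_pow A hu
  haveI : LocallyOfFiniteType (φ.left ≫ B.hom) := by rw [Over.w]; infer_instance
  haveI : LocallyOfFiniteType φ.left := locallyOfFiniteType_of_comp φ.left B.hom
  haveI : LocallyOfFinitePresentation (φ.left ≫ B.hom) := by rw [Over.w]; infer_instance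
  haveI : LocallyOfFinitePresentation φ.left := SchBasic.locallyOfFinitePresentation_of_comp φ.left B.hom
  haveI : FormallyUnramified (φ.left ≫ ψ.left) := by rw [← Over.comp_left, hcomp]; infer_instance
  haveI : FormallyUnramified φ.left := FormallyUnramified.of_comp φ.left ψ.left
  haveI : LocallyQuasiFinite φ.left := MulEtale.locallyQuasiFinite_of_unramified φ.left
  haveI : Flat φ.left :=
    (locallyQuasiFinite_iff_flat A B φ (dim_fibre_eq_of_isogeny R A B φ hφ)).1 inferInstance
  haveI : Etale φ.left := Etale.iff_flat_and_formallyUnramified.2 ⟨inferInstance, inferInstance, inferInstance⟩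
  haveI hNe : Etale N.hom := GrpUnr20.kernel_hom φ i hN (P := @Etale) ‹_›
  refine ⟨⟨inferInstance, ?_, inferInstance, ?_, fun Y hY => ?_⟩, hNe⟩
  · haveI : IsSeparated (φ.left ≫ B.hom) := by rw [Over.w]; infer_instance
    exact GrpUnr20.kernel_hom φ i hN (P := @IsSeparated) (IsSeparated.of_comp φ.left B.hom)
  · haveI : QuasiCompact (φ.left ≫ B.hom) := by rw [Over.w]; infer_instance
    exact GrpUnr20.kernel_hom φ i hN (P := @QuasiCompact) (QuasiCompact.of_comp φ.left B.hom)
  haveI : IsClosedImmersion η[B].left := by
    haveI : IsClosedImmersion (η[B].left ≫ B.hom) := by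
      rw [Over.w η[B]]; exact (inferInstance : IsClosedImmersion (𝟙 (Spec (CommRingCat.of R))))
    exact IsClosedImmersion.of_comp η[B].left B.hom
  haveI : IsClosedImmersion i.left := MorphismProperty.of_isPullback
    (P := @IsClosedImmersion) (hN.map (Over.forget _)).flip (inferInstance : IsClosedImmersion η[B].left)
  haveI : IsSeparated N.hom := by rw [← Over.w i]; infer_instance
  constructor
  · intro g g' hgg
    exact NeronElem.eq_of_map_eq R Y N g g' (by simpa using hgg)
  · intro a
    obtain ⟨g, hg⟩ := (hAext Y hY).2 (a ≫ F.map i)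
    obtain ⟨h, hh⟩ := NeronElem.exists_lift_closed R A N Y i a g ((Category.comp_id _).symm.trans hg)
    exact ⟨h, (Category.comp_id _).trans hh⟩

end Groth.Agent.NeronIsog19
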