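import Groth.Agent.Lib.NeronIsog19.Basic
import Groth.Prelude.Def_Neron
import Groth.Prelude.Def_SGA7IX
import Mathlib.AlgebraicGeometry.Morphisms.Preimmersion

/-!
# Isogenies of smooth group schemes over a domain
-/

universe u

open CategoryTheory Limits MonoidalCategory CartesianMonoidalCategory AlgebraicGeometry
open scoped MonObj GrpObj CategoryTheory.Obj

set_option linter.style.haveILetI false
set_option backward.isDefEq.respectTransparency false

namespace Groth.Agent.NeronIsog19

variable (R : Type u) [CommRing R] [IsDomain R]

/-- Over a domain the fibres of a smooth group all have the dimension of the generic fibre. -/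
theorem dim_fibre_eq_generic (G : Over (Spec (CommRingCat.of R))) [GrpObj G] [Smooth G.hom]
    (s : Spec (CommRingCat.of R)) :
    topologicalKrullDim ↥(G.hom ⁻¹' {s}) = topologicalKrullDim ((Neron.genericFibre R).obj G).left := by
  haveI : PreirreducibleSpace (Spec (CommRingCat.of R)) :=
    inferInstanceAs (PreirreducibleSpace (PrimeSpectrum R))
  haveI : PreconnectedSpace (Spec (CommRingCat.of R)) := inferInstance
  rw [dim_pullback_field G (Neron.genPt R)]
  exact (GrpCM20.isLocallyConstant_dim _ G).apply_eq_of_preconnectedSpace _ _

/-- A homomorphism of smooth groups which is an isogeny on the generic fibre relates fibres of equal dimension. -/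
theorem dim_fibre_eq_of_isogeny (G H : Over (Spec (CommRingCat.of R))) [GrpObj G] [GrpObj H] [Smooth G.hom]
    [QuasiCompact G.hom] [Smooth H.hom] [IsSeparated H.hom] (f : G ⟶ H) [IsMonHom f]
    (hf : SGA7.IsIsogenyOver ((Neron.genericFibre R).map f)) (s : Spec (CommRingCat.of R)) :
    topologicalKrullDim ↥(G.hom ⁻¹' {s}) = topologicalKrullDim ↥(H.hom ⁻¹' {s}) := by
  rw [dim_fibre_eq_generic R G, dim_fibre_eq_generic R H]
  let u := (Neron.genericFibre R).map f
  haveI : LocallyOfFiniteType ((Neron.genericFibre R).obj G).hom :=
    inferInstanceAs (LocallyOfFiniteType (pullback.snd _ _))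
  haveI : LocallyOfFiniteType ((Neron.genericFibre R).obj H).hom :=
    inferInstanceAs (LocallyOfFiniteType (pullback.snd _ _))
  haveI : QuasiCompact (u.left ≫ ((Neron.genericFibre R).obj H).hom) := by
    rw [Over.w]; exact inferInstanceAs (QuasiCompact (pullback.snd G.hom (Neron.genPt R)))
  haveI : IsSeparated ((Neron.genericFibre R).obj H).hom :=
    inferInstanceAs (IsSeparated (pullback.snd H.hom (Neron.genPt R)))
  haveI : QuasiCompact u.left := QuasiCompact.of_comp u.left ((Neron.genericFibre R).obj H).hom
  haveI : Surjective u.left := hf.1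
  let i := pullback.fst u η[(Neron.genericFibre R).obj H]
  have hN : IsPullback i (toUnit _) u η[(Neron.genericFibre R).obj H] := by
    rw [toUnit_unique (toUnit _) (pullback.snd u η[(Neron.genericFibre R).obj H])]
    exact IsPullback.of_hasPullback u η[(Neron.genericFibre R).obj H]
  haveI := hf.2 _ i hN
  exact dim_eq_of_surjective _ _ _ u i hN

end Groth.Agent.NeronIsog19
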